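import Groth.Agent.Lib.Weight.Constructible

/-!
# Constructibility of fibre integrals of constructible functions along finite morphisms
-/

universe u

open CategoryTheory Limits AlgebraicGeometry Topology

namespace GrothLib.WeightLim8

open MoreMor GrothLib.Weight

/-- Radiciality spreads out, for an affine base. -/
theorem exists_constructible_radicial_nhd {T O : Scheme.{u}} [IsAffine O] (π : T ⟶ O) [IsFinite π]
    {Ω₀ : Type u} [Field Ω₀] [IsAlgClosed Ω₀] (p₀ : Spec (CommRingCat.of Ω₀) ⟶ O)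
    (hs : Subsingleton (GeomPts π p₀)) :
    ∃ E : Set O, IsConstructible E ∧ pt p₀ ∈ E ∧ ∀ (Ω : Type u) [Field Ω]
      (p : Spec (CommRingCat.of Ω) ⟶ O), pt p ∈ E → Subsingleton (GeomPts π p) := by
  haveI : IsAffine T := isAffine_of_isAffineHom π
  let e := O.isoSpec
  let φ : Γ(O, ⊤) ⟶ Γ(T, ⊤) := Spec.preimage (T.isoSpec.inv ≫ π ≫ e.hom)
  have hφ : Spec.map φ = T.isoSpec.inv ≫ π ≫ e.hom := Spec.map_preimage _
  haveI : IsFinite (Spec.map φ) := by rw [hφ]; infer_instance
  have hsq : IsPullback T.isoSpec.hom π (Spec.map φ) e.hom :=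
    IsPullback.of_horiz_isIso ⟨by rw [hφ, Iso.hom_inv_id_assoc]⟩
  haveI : Subsingleton (GeomPts (Spec.map φ) (p₀ ≫ e.hom)) :=
    (geomPtsEquiv hsq p₀ (p₀ ≫ e.hom) rfl).symm.subsingleton
  obtain ⟨E, hE, hpE, hEs⟩ := exists_constructible_subsingleton φ (p₀ ≫ e.hom) inferInstance
  exact ⟨e.hom ⁻¹' E, e.hom.isConstructible_preimage hE, hpE,
    fun Ω _ p hp => haveI := hEs Ω (p ≫ e.hom) hp; (geomPtsEquiv hsq p (p ≫ e.hom) rfl).subsingleton⟩

theorem isConstructible_fin_inter {α : Type*} [TopologicalSpace α] {n : ℕ} (E : Fin n → Set α)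
    (h : ∀ i, IsConstructible (E i)) : IsConstructible (⋂ i, E i) := by
  rw [← compl_compl (⋂ i, E i), Set.compl_iInter]
  exact (IsConstructible.iUnion fun i => (h i).compl).compl

variable {T V : Scheme.{u}} (π : T ⟶ V) [IsFinite π] [LocallyOfFinitePresentation π]
  [CompactSpace V] [QuasiSeparatedSpace V] {w : T → ℤ} (hw : ∀ n, IsConstructible {t : T | w t = n})

include hw in
theorem exists_constructible_fibreIntegral_nhd (v : V) :
    ∃ E : Set V, IsConstructible E ∧ v ∈ E ∧ ∀ z ∈ E, fibreIntegral π w z = fibreIntegral π w v := by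
  classical
  obtain ⟨Ω, _, _, p, rfl⟩ := exists_pt v
  obtain ⟨V', h, _, p', hp', n, P, j, hj, hjfin, hjpt, hcov⟩ := exists_split π p
  obtain ⟨O, hO, hpO, -⟩ := exists_isAffineOpen_mem_and_subset (x := pt p') (U := ⊤) trivial
  haveI : IsAffine (O : Scheme.{u}) := hO
  let k : (O : Scheme.{u}) ⟶ V' := O.ι
  let h' : (O : Scheme.{u}) ⟶ V := k ≫ h
  haveI : QuasiCompact h' :=
    quasiCompact_of_compactSpace h'
  have hr : Set.range p' ⊆ Set.range k := range_subset_of_pt_mem p' (by
    rw [Scheme.Opens.range_ι]; exact hpO)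
  let p'' := IsOpenImmersion.lift k p' hr
  have hp'' : p'' ≫ k = p' := IsOpenImmersion.lift_fac _ _ _
  let σ : ∀ i, P i ⟶ V' := fun i => j i ≫ pullback.snd π h
  haveI : ∀ i, IsFinite (σ i) := hjfin
  haveI := hj
  haveI : ∀ i, LocallyOfFinitePresentation (σ i) := fun i => inferInstance
  let τ : ∀ i, pullback (σ i) k ⟶ (O : Scheme.{u}) := fun i => pullback.snd (σ i) k
  let a : ∀ i, pullback (σ i) k ⟶ T := fun i => pullback.fst (σ i) k ≫ j i ≫ pullback.fst π h
  haveI : ∀ i, IsFinite (τ i) := fun i => MorphismProperty.pullback_snd _ _ inferInstance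
  haveI : ∀ i, LocallyOfFinitePresentation (τ i) := fun i => MorphismProperty.pullback_snd _ _ inferInstance
  haveI : ∀ i, CompactSpace ↥(pullback (σ i) k) := fun i => QuasiCompact.compactSpace_of_compactSpace (τ i)
  haveI : ∀ i, QuasiSeparatedSpace ↥(pullback (σ i) k) := fun i =>
    quasiSeparatedSpace_of_quasiSeparated (τ i)
  haveI : CompactSpace T := QuasiCompact.compactSpace_of_compactSpace π
  haveI : QuasiSeparatedSpace T := quasiSeparatedSpace_of_quasiSeparated π
  haveI : ∀ i, QuasiCompact (a i) := fun i => quasiCompact_of_compactSpace (a i)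
  have hq : ∀ i, Subsingleton (GeomPts (τ i) p'') ∧ Nonempty (GeomPts (τ i) p'') := fun i => by
    let e := geomPtsEquiv (IsPullback.of_hasPullback (σ i) k) p'' p' hp''
    haveI := (hjpt i).1
    exact ⟨e.subsingleton, (hjpt i).2.map e.symm⟩
  let c : Fin n → ℤ := fun i => w (a i (pt (hq i).2.some.1))
  let L : ∀ i, Set ↥(pullback (σ i) k) := fun i => a i ⁻¹' {t | w t = c i}
  choose E hE hpE hEs using fun i => exists_constructible_radicial_nhd (τ i) p'' (hq i).1
  let E' : Set (O : Scheme.{u}) := (⋂ i, E i) ∩ ⋂ i, τ i '' L i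
  have hE' : IsConstructible E' := (isConstructible_fin_inter E hE).inter
    (isConstructible_fin_inter _ fun i => (τ i).isConstructible_image ((a i).isConstructible_preimage (hw _)))
  have hpE' : pt p'' ∈ E' := ⟨Set.mem_iInter.mpr hpE, Set.mem_iInter.mpr fun i =>
    ⟨pt (hq i).2.some.1, rfl, pt_geomPts _⟩⟩
  have hval : ∀ z ∈ E', fibreIntegral π w (h' z) = ∑ i, c i := by
    rintro z ⟨hz1, hz2⟩
    rw [show h' z = h (k z) from rfl, ← fibreIntegral_isPullback (IsPullback.of_hasPullback π h) w (k z),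
      fibreIntegral_split (pullback.snd π h) P j (k z) ((pullback.snd π h).finite_preimage_singleton _)
        (fun x _ => hcov x)]
    refine Finset.sum_congr rfl fun i _ => ?_
    rw [← fibreIntegral_isPullback (IsPullback.of_hasPullback (σ i) k) _ z]
    obtain ⟨t, ht, rfl⟩ := Set.mem_iInter.mp hz2 i
    obtain ⟨Ω', _, _, q, rfl⟩ := exists_pt t
    haveI := hEs i Ω' (q ≫ τ i) (Set.mem_iInter.mp hz1 i)
    exact (fibreIntegral_of_unique_geomPts (τ i) (q ≫ τ i) ⟨q, rfl⟩ _).trans ht
  have hv : h' (pt p'') = pt p := by rw [← pt_comp, ← Category.assoc, hp'', hp']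
  refine ⟨h' '' E', h'.isConstructible_image hE', ⟨pt p'', hpE', hv⟩, ?_⟩
  rintro _ ⟨z, hz, rfl⟩
  rw [hval z hz, ← hv, hval _ hpE']

include hw in
/-- Fibre integrals of constructible functions have constructible level sets. -/
theorem isConstructible_fibreIntegral (n : ℤ) : IsConstructible {v : V | fibreIntegral π w v = n} :=
  (GrothLib.Weight.isConstructible_levelSets _ (exists_constructible_fibreIntegral_nhd π hw)).1 n

end GrothLib.WeightLim8
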