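import Groth.Agent.Lib.Weight.Weighting
import Groth.Agent.Lib.ConsLim.LimTop
import Groth.Agent.Lib.LimDescend.Property
import Groth.Agent.Lib.LimDesc.Finite
import Groth.Agent.Lib.LimSmooth.Affine

/-!
# Models of pieces at finite stages
-/

universe u

set_option backward.isDefEq.respectTransparency false

open CategoryTheory Limits AlgebraicGeometry Topology

namespace GrothLib.WeightLim8

variable {I : Type u} [SmallCategory I] (D : I ⥤ Scheme.{u}) (c : Cone D)
  {X : Scheme.{u}} (f : X ⟶ c.pt)
  {R : Scheme.{u}} (g : R ⟶ c.pt) {B : Scheme.{u}} (π₀ : B ⟶ R) (a₀ : B ⟶ X)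

/-- A model of the piece `(π₀, a₀)` over `g`, for a model of `f` at the stage `i`. -/
structure Pre {i : I} {Xi : Scheme.{u}} (fi : Xi ⟶ D.obj i) (qi : X ⟶ Xi) where
  /-- the base -/
  V : Scheme.{u}
  /-- the structure map of the base -/
  v : V ⟶ D.obj i
  /-- the total space -/
  T : Scheme.{u}
  /-- the projection -/
  π : T ⟶ V
  /-- the map to the model -/
  a : T ⟶ Xi
  /-- the base of the piece at the limit, mapped to the model -/
  eV : R ⟶ V
  /-- the piece at the limit, mapped to the model -/
  eT : B ⟶ T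
  etale : Etale v
  qc : QuasiCompact v
  qs : QuasiSeparated v
  qcπ : QuasiCompact π
  qsπ : QuasiSeparated π
  lfp : LocallyOfFinitePresentation π
  w : a ≫ fi = π ≫ v
  openImm : IsOpenImmersion (pullback.lift a π w : T ⟶ pullback fi v)
  sqV : IsPullback eV g v (c.π.app i)
  sqT : IsPullback eT π₀ π eV
  comm : eT ≫ a = a₀ ≫ qi

attribute [instance] Pre.etale Pre.qc Pre.qs Pre.qcπ Pre.qsπ Pre.lfp Pre.openImm

variable {D c f g π₀ a₀} {i : I} {Xi : Scheme.{u}} {fi : Xi ⟶ D.obj i} {qi : X ⟶ Xi}

/-- The map between the base changes of the total space and of the base. -/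
noncomputable def Pre.πMap (M : Pre D c g π₀ a₀ fi qi) {m : I} (φ : m ⟶ i) :
    pullback (M.π ≫ M.v) (D.map φ) ⟶ pullback M.v (D.map φ) :=
  pullback.lift (pullback.fst _ _ ≫ M.π) (pullback.snd _ _) (by rw [Category.assoc]; exact pullback.condition)

theorem Pre.isPullback_πMap (M : Pre D c g π₀ a₀ fi qi) {m : I} (φ : m ⟶ i) :
    IsPullback (pullback.fst (M.π ≫ M.v) (D.map φ)) (M.πMap φ) M.π (pullback.fst M.v (D.map φ)) := by
  refine IsPullback.of_bot ?_ (pullback.lift_fst _ _ _).symm (IsPullback.of_hasPullback M.v (D.map φ))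
  rw [Pre.πMap, pullback.lift_snd]
  exact IsPullback.of_hasPullback _ _

/-- A model at a stage gives one at every later stage, with a chosen projection. -/
theorem Pre.map (hsq : IsPullback qi f fi (c.π.app i)) (ha₀ : a₀ ≫ f = π₀ ≫ g)
    (M : Pre D c g π₀ a₀ fi qi) {m : I} (φ : m ⟶ i) (qm : X ⟶ pullback fi (D.map φ))
    (hqm : qm ≫ pullback.fst _ _ = qi) (hqm' : qm ≫ pullback.snd _ _ = f ≫ c.π.app m) :
    ∃ N : Pre D c g π₀ a₀ (pullback.snd fi (D.map φ)) qm,
      ∀ P : MorphismProperty Scheme.{u}, P (M.πMap φ) → P N.π := by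
  let V' := pullback M.v (D.map φ)
  let T' := pullback (M.π ≫ M.v) (D.map φ)
  let π' : T' ⟶ V' := M.πMap φ
  have h1 : pullback.snd (M.π ≫ M.v) (D.map φ) = π' ≫ pullback.snd M.v (D.map φ) := by
    simp only [π', Pre.πMap, pullback.lift_snd]
  let a' : T' ⟶ pullback fi (D.map φ) := pullback.lift (pullback.fst _ _ ≫ M.a) (pullback.snd _ _)
    (by rw [Category.assoc, M.w]; exact pullback.condition)
  have hw : a' ≫ pullback.snd fi (D.map φ) = π' ≫ pullback.snd M.v (D.map φ) := by
    rw [pullback.lift_snd, h1]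
  have hV : IsPullback (pullback.lift M.eV (g ≫ c.π.app m) (by
      rw [Category.assoc, c.w, M.sqV.w]) : R ⟶ V') g (pullback.snd M.v (D.map φ)) (c.π.app m) := by
    refine IsPullback.of_right ?_ (pullback.lift_snd _ _ _) (IsPullback.of_hasPullback M.v (D.map φ))
    rw [pullback.lift_fst, c.w]
    exact M.sqV
  let eV' : R ⟶ V' := pullback.lift M.eV (g ≫ c.π.app m) (by rw [Category.assoc, c.w, M.sqV.w])
  have hπfst : π' ≫ pullback.fst M.v (D.map φ) = pullback.fst (M.π ≫ M.v) (D.map φ) ≫ M.π :=
    pullback.lift_fst _ _ _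
  let eT' : B ⟶ T' := pullback.lift M.eT (π₀ ≫ g ≫ c.π.app m) (by
    rw [Category.assoc, Category.assoc, c.w, reassoc_of% M.sqT.w, M.sqV.w])
  have hT : IsPullback eT' π₀ π' eV' := by
    refine IsPullback.of_right ?_ ?_ (M.isPullback_πMap φ)
    · simp only [eT', eV', pullback.lift_fst]
      exact M.sqT
    · apply pullback.hom_ext
      · rw [Category.assoc, hπfst, pullback.lift_fst_assoc, Category.assoc, pullback.lift_fst, M.sqT.w]
      · rw [Category.assoc, ← h1, pullback.lift_snd, Category.assoc, pullback.lift_snd]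
  haveI : LocallyOfFinitePresentation π' := MorphismProperty.of_isPullback (M.isPullback_πMap φ) M.lfp
  haveI : QuasiCompact π' := MorphismProperty.of_isPullback (M.isPullback_πMap φ) M.qcπ
  haveI : QuasiSeparated π' := MorphismProperty.of_isPullback (M.isPullback_πMap φ) M.qsπ
  have hopen : IsOpenImmersion (pullback.lift a' π' hw : T' ⟶ pullback (pullback.snd fi (D.map φ))
      (pullback.snd M.v (D.map φ))) := by
    -- the target is the base change of `pullback fi M.v` along the stage map
    let r : pullback (pullback.snd fi (D.map φ)) (pullback.snd M.v (D.map φ)) ⟶ pullback fi M.v :=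
      pullback.map _ _ _ _ (pullback.fst _ _) (pullback.fst _ _) (D.map φ) pullback.condition.symm
        pullback.condition.symm
    have hr1 : IsPullback r (pullback.snd _ _) (pullback.snd fi M.v) (pullback.fst M.v (D.map φ)) := by
      refine IsPullback.of_right ?_ (pullback.lift_snd _ _ _) (IsPullback.of_hasPullback fi M.v)
      have e := (IsPullback.of_hasPullback (pullback.snd fi (D.map φ)) (pullback.snd M.v (D.map φ))).paste_horiz
        (IsPullback.of_hasPullback fi (D.map φ))
      simp only [r, pullback.map, pullback.lift_fst]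
      rw [← pullback.condition]  at e
      exact e
    refine MorphismProperty.of_isPullback (P := @IsOpenImmersion)
      (f' := pullback.fst (M.π ≫ M.v) (D.map φ)) (f := r) ?_ M.openImm
    refine IsPullback.of_bot ?_ ?_ hr1
    · rw [pullback.lift_snd, pullback.lift_snd]
      exact M.isPullback_πMap φ
    · apply pullback.hom_ext
      · simp only [r, pullback.map, Category.assoc, pullback.lift_fst, pullback.lift_fst_assoc, a']
      · simp only [r, pullback.map, Category.assoc, pullback.lift_snd, pullback.lift_snd_assoc, π', Pre.πMap,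
          pullback.lift_fst]
  refine ⟨⟨V', pullback.snd _ _, T', π', a', eV', eT', MorphismProperty.pullback_snd (P := @Etale) _ _ M.etale,
    MorphismProperty.pullback_snd (P := @QuasiCompact) _ _ M.qc,
    MorphismProperty.pullback_snd (P := @QuasiSeparated) _ _ M.qs, inferInstance, inferInstance, inferInstance,
    hw, hopen, hV, hT, ?_⟩, fun P h => h⟩
  apply pullback.hom_ext
  · simp only [a', Category.assoc, pullback.lift_fst]
    rw [hqm, pullback.lift_fst_assoc, M.comm]
  · simp only [a', Category.assoc, pullback.lift_snd]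
    rw [hqm', pullback.lift_snd, reassoc_of% ha₀]

variable [IsCofiltered I] [∀ i, IsAffine (D.obj i)] [∀ (i j : I) (u : i ⟶ j), IsAffineHom (D.map u)]

/-- A finitely presented piece has a model at some stage above any given one. -/
theorem exists_pre (hc : IsLimit c) [IsAffine Xi] [LocallyOfFinitePresentation fi] (hsq : IsPullback qi f fi (c.π.app i))
    [Etale g] [QuasiCompact g] [QuasiSeparated g] [IsFinite π₀] [CompactSpace R]
    (hP : Weight.Piece f g π₀ a₀) :
    ∃ (m : I) (φ : m ⟶ i) (qm : X ⟶ pullback fi (D.map φ)), qm ≫ pullback.fst _ _ = qi ∧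
      qm ≫ pullback.snd _ _ = f ≫ c.π.app m ∧
      ∃ N : Pre D c g π₀ a₀ (pullback.snd fi (D.map φ)) qm, IsFinite N.π := by
  -- a model of the base
  obtain ⟨jg, M, hM⟩ := GrothLib.LimDescend.exists_model_property D c hc @Etale
    (fun a b _ h => GrothLib.LimSmooth.etale_comp_openImmersion a b h) GrothLib.LimSmooth.affineCase_etale g
    ‹Etale g›
  let n := IsCofiltered.min i jg
  let un : n ⟶ i := IsCofiltered.minToLeft i jg
  let V := pullback M.hom (D.map (IsCofiltered.minToRight i jg))
  let v : V ⟶ D.obj n := pullback.snd _ _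
  haveI : Etale v := MorphismProperty.pullback_snd (P := @Etale) _ _ hM
  haveI : QuasiCompact v := MorphismProperty.pullback_snd (P := @QuasiCompact) _ _ M.qc
  haveI : QuasiSeparated v := MorphismProperty.pullback_snd (P := @QuasiSeparated) _ _ M.qs
  let eV : R ⟶ V := pullback.lift M.proj (g ≫ c.π.app n) (by rw [Category.assoc, c.w, M.isPullback.w])
  have hV : IsPullback eV g v (c.π.app n) := by
    refine IsPullback.of_right ?_ (pullback.lift_snd _ _ _) (IsPullback.of_hasPullback _ _)
    rw [pullback.lift_fst, c.w]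
    exact M.isPullback
  let fn := pullback.snd fi (D.map un)
  let qn : X ⟶ pullback fi (D.map un) := pullback.lift qi (f ≫ c.π.app n) (by rw [Category.assoc, c.w, hsq.w])
  have hn : IsPullback qn f fn (c.π.app n) := by
    refine IsPullback.of_right ?_ (pullback.lift_snd _ _ _) (IsPullback.of_hasPullback _ _)
    rw [pullback.lift_fst, c.w]
    exact hsq
  -- the piece as an open of the limit
  let P := pullback fn v
  let qP : pullback f g ⟶ P := pullback.map f g fn v qn eV (c.π.app n) hn.w.symm hV.w.symm
  have hP1 : IsPullback qP (pullback.snd f g) (pullback.snd fn v) eV := by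
    refine IsPullback.of_right ?_ (pullback.lift_snd _ _ _) (IsPullback.of_hasPullback fn v)
    have e := (IsPullback.of_hasPullback f g).paste_horiz hn
    rw [← hV.w] at e
    simp only [qP, pullback.map, pullback.lift_fst]
    exact e
  have hPn : IsPullback qP (pullback.snd f g ≫ g) (pullback.snd fn v ≫ v) (c.π.app n) := hP1.paste_vert hV
  haveI := hP.openImmersion
  let j : B ⟶ pullback f g := pullback.lift a₀ π₀ hP.w
  haveI : CompactSpace B := QuasiCompact.compactSpace_of_compactSpace π₀
  let cP := GrothLib.LimDesc.cone D n (pullback.snd fn v ≫ v) hPn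
  have hcP : IsLimit cP := GrothLib.LimDesc.isLimitCone D n (pullback.snd fn v ≫ v) hPn hc
  let top : Over n := Over.mk (𝟙 n)
  haveI : IsAffine (pullback fi (D.map un)) := isAffine_of_isAffineHom (pullback.fst fi (D.map un))
  haveI : IsAffineHom fn := inferInstance
  obtain ⟨m, -, U, hUo, hUc, hU⟩ := GrothLib.ConsLim.exists_open_preimage_eq _ cP hcP top (Set.range j)
    j.isOpenEmbedding.isOpen_range (isCompact_range j.continuous)
  -- descend finiteness
  let φ : m.left ⟶ n := m.hom
  let Xm := pullback fn (D.map φ)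
  let qm : X ⟶ Xm := pullback.lift qn (f ≫ c.π.app m.left) (by rw [Category.assoc, c.w, hn.w])
  have hm : IsPullback qm f (pullback.snd fn (D.map φ)) (c.π.app m.left) := by
    refine IsPullback.of_right ?_ (pullback.lift_snd _ _ _) (IsPullback.of_hasPullback _ _)
    rw [pullback.lift_fst, c.w]
    exact hn
  let Q := pullback (pullback.snd fn v ≫ v) (D.map φ)
  let Vm := pullback v (D.map φ)
  let eVm : R ⟶ Vm := pullback.lift eV (g ≫ c.π.app m.left) (by rw [Category.assoc, c.w, hV.w])
  have hVm : IsPullback eVm g (pullback.snd v (D.map φ)) (c.π.app m.left) := by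
    refine IsPullback.of_right ?_ (pullback.lift_snd _ _ _) (IsPullback.of_hasPullback _ _)
    rw [pullback.lift_fst, c.w]
    exact hV
  let σ : Q ⟶ Vm := pullback.lift (pullback.fst _ _ ≫ pullback.snd fn v) (pullback.snd _ _)
    (by rw [Category.assoc]; exact pullback.condition)
  have hσ : IsPullback (pullback.fst (pullback.snd fn v ≫ v) (D.map φ)) σ (pullback.snd fn v)
      (pullback.fst v (D.map φ)) := by
    refine IsPullback.of_bot ?_ (pullback.lift_fst _ _ _).symm (IsPullback.of_hasPullback v (D.map φ))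
    rw [pullback.lift_snd]
    exact IsPullback.of_hasPullback _ _
  let α : Q ⟶ Xm := pullback.lift (pullback.fst _ _ ≫ pullback.fst fn v) (pullback.snd _ _)
    (by rw [Category.assoc, pullback.condition (f := fn) (g := v)]; exact pullback.condition)
  have hwQ : α ≫ pullback.snd fn (D.map φ) = σ ≫ pullback.snd v (D.map φ) := by
    rw [pullback.lift_snd, pullback.lift_snd]
  have hQ : IsPullback α σ (pullback.snd fn (D.map φ)) (pullback.snd v (D.map φ)) := by
    refine IsPullback.of_right ?_ hwQ (IsPullback.of_hasPullback fn (D.map φ))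
    have e := hσ.paste_horiz (IsPullback.of_hasPullback fn v).flip.flip
    rw [pullback.lift_fst, show pullback.snd v (D.map φ) ≫ D.map φ = pullback.fst v (D.map φ) ≫ v from
      pullback.condition.symm]
    exact e
  let qQ : pullback f g ⟶ Q := cP.π.app m
  have hqQ1 : qQ ≫ pullback.fst _ _ = qP := pullback.lift_fst _ _ _
  have hqQ2 : qQ ≫ pullback.snd _ _ = (pullback.snd f g ≫ g) ≫ c.π.app m.left := pullback.lift_snd _ _ _
  have hqσ : IsPullback qQ (pullback.snd f g) σ eVm := by
    refine IsPullback.of_right ?_ ?_ hσ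
    · rw [hqQ1, pullback.lift_fst]
      exact hP1
    · apply pullback.hom_ext
      · rw [Category.assoc, pullback.lift_fst, reassoc_of% hqQ1, Category.assoc, pullback.lift_fst, hP1.w]
      · rw [Category.assoc, pullback.lift_snd, hqQ2, Category.assoc, Category.assoc, pullback.lift_snd]
  let U' : Q.Opens := ⟨U, hUo⟩
  have hjU : qQ ⁻¹ᵁ U' = j.opensRange := TopologicalSpace.Opens.ext hU
  have hr : Set.range (j ≫ qQ) ⊆ Set.range U'.ι := by
    rw [Scheme.Opens.range_ι]
    rintro _ ⟨b, rfl⟩
    exact hjU.ge ⟨b, rfl⟩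
  let eT : B ⟶ U' := IsOpenImmersion.lift U'.ι (j ≫ qQ) hr
  have heT : eT ≫ U'.ι = j ≫ qQ := IsOpenImmersion.lift_fac _ _ _
  have hT : IsPullback eT π₀ (U'.ι ≫ σ) eVm := by
    have e := (IsOpenImmersion.isPullback eT j U'.ι qQ heT.symm
      (by rw [Scheme.Opens.opensRange_ι]; exact hjU)).paste_vert hqσ
    rwa [show j ≫ pullback.snd f g = π₀ from pullback.lift_snd _ _ _] at e
  haveI : CompactSpace (U' : Scheme.{u}) := isCompact_iff_compactSpace.mp hUc
  haveI : IsAffine Xm := isAffine_of_isAffineHom (pullback.fst fn (D.map φ))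
  haveI : CompactSpace V := QuasiCompact.compactSpace_of_compactSpace v
  haveI : QuasiSeparatedSpace V := quasiSeparatedSpace_of_quasiSeparated v
  haveI : QuasiCompact (pullback.snd v (D.map φ)) := inferInstance
  haveI : QuasiSeparated (pullback.snd v (D.map φ)) := inferInstance
  haveI : CompactSpace Vm := QuasiCompact.compactSpace_of_compactSpace (pullback.snd v (D.map φ))
  haveI : QuasiSeparatedSpace Vm := quasiSeparatedSpace_of_quasiSeparated (pullback.snd v (D.map φ))
  haveI : LocallyOfFinitePresentation fn := inferInstance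
  haveI : LocallyOfFinitePresentation σ := MorphismProperty.of_isPullback hσ inferInstance
  haveI : QuasiSeparated σ := MorphismProperty.of_isPullback hσ inferInstance
  haveI : QuasiSeparatedSpace Q := quasiSeparatedSpace_of_quasiSeparated σ
  haveI : QuasiSeparatedSpace (U' : Scheme.{u}) := U'.ι.isOpenEmbedding.quasiSeparatedSpace
  have hw0 : (U'.ι ≫ α) ≫ pullback.snd fn (D.map φ) = (U'.ι ≫ σ) ≫ pullback.snd v (D.map φ) := by
    rw [Category.assoc, Category.assoc, hwQ]
  have hop : IsOpenImmersion (pullback.lift (U'.ι ≫ α) (U'.ι ≫ σ) hw0 : _ ⟶ pullback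
      (pullback.snd fn (D.map φ)) (pullback.snd v (D.map φ))) := by
    rw [show pullback.lift (U'.ι ≫ α) (U'.ι ≫ σ) hw0 = U'.ι ≫ hQ.isoPullback.hom by
      apply pullback.hom_ext <;> simp]
    infer_instance
  have hcomm : eT ≫ U'.ι ≫ α = a₀ ≫ qm := by
    rw [reassoc_of% heT]
    apply pullback.hom_ext
    · simp only [α, qm, Category.assoc, pullback.lift_fst]
      rw [reassoc_of% hqQ1]
      simp only [qP, j, pullback.map, pullback.lift_fst, pullback.lift_fst_assoc]
    · simp only [α, qm, Category.assoc, pullback.lift_snd]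
      rw [hqQ2, Category.assoc, pullback.lift_snd_assoc, reassoc_of% hP.w]
  let M₁ : Pre D c g π₀ a₀ (pullback.snd fn (D.map φ)) qm :=
    ⟨Vm, pullback.snd _ _, _, U'.ι ≫ σ, U'.ι ≫ α, eVm, eT, MorphismProperty.pullback_snd (P := @Etale) _ _ ‹_›,
      inferInstance, inferInstance, quasiCompact_of_compactSpace _, inferInstance, inferInstance, hw0, hop,
      hVm, hT, hcomm⟩
  obtain ⟨l, hl⟩ := GrothLib.LimDesc.exists_isFinite D hc (U'.ι ≫ σ) (pullback.snd v (D.map φ)) hVm hT
  -- the stage where everything holds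
  let χ : l.left ⟶ m.left := l.hom
  let ql : X ⟶ pullback (pullback.snd fn (D.map φ)) (D.map χ) :=
    pullback.lift qm (f ≫ c.π.app l.left) (by rw [Category.assoc, c.w, hm.w])
  obtain ⟨N, hN⟩ := M₁.map hm hP.w χ ql (pullback.lift_fst _ _ _) (pullback.lift_snd _ _ _)
  have hfin : IsFinite N.π := hN @IsFinite hl
  -- identify the stage with a base change of `fi`
  let e : pullback (pullback.snd fn (D.map φ)) (D.map χ) ⟶ pullback fi (D.map (χ ≫ φ ≫ un)) :=
    pullback.lift (pullback.fst _ _ ≫ pullback.fst _ _ ≫ pullback.fst _ _) (pullback.snd _ _) (by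
      have h1 : pullback.fst fi (D.map un) ≫ fi = fn ≫ D.map un := pullback.condition
      rw [Category.assoc, Category.assoc, h1, pullback.condition_assoc, pullback.condition_assoc,
        D.map_comp, D.map_comp])
  have he : IsPullback (pullback.fst _ _ ≫ pullback.fst _ _ ≫ pullback.fst _ _)
      (pullback.snd (pullback.snd fn (D.map φ)) (D.map χ)) fi (D.map (χ ≫ φ ≫ un)) := by
    rw [D.map_comp, D.map_comp]
    exact (IsPullback.of_hasPullback _ _).paste_horiz
      ((IsPullback.of_hasPullback fn (D.map φ)).paste_horiz (IsPullback.of_hasPullback fi (D.map un)))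
  have hee : e = he.isoPullback.hom := by
    apply pullback.hom_ext
    · rw [he.isoPullback_hom_fst, pullback.lift_fst]
    · rw [he.isoPullback_hom_snd, pullback.lift_snd]
  haveI : IsIso e := hee ▸ inferInstance
  refine ⟨l.left, χ ≫ φ ≫ un, ql ≫ e, ?_, ?_, ⟨N.V, N.v, N.T, N.π, N.a ≫ e, N.eV, N.eT, N.etale, N.qc, N.qs,
    N.qcπ, N.qsπ, N.lfp, ?_, ?_, N.sqV, N.sqT, by rw [reassoc_of% N.comm]⟩, hfin⟩
  · simp only [e, ql, qm, qn, Category.assoc, pullback.lift_fst, pullback.lift_fst_assoc]
  · simp only [e, ql, Category.assoc, pullback.lift_snd]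
  · rw [Category.assoc, pullback.lift_snd, N.w]
  · let k : pullback (pullback.snd (pullback.snd fn (D.map φ)) (D.map χ)) N.v ⟶
        pullback (pullback.snd fi (D.map (χ ≫ φ ≫ un))) N.v :=
      pullback.map _ _ _ _ e (𝟙 _) (𝟙 _) (by rw [Category.comp_id, pullback.lift_snd]) (by simp)
    haveI : IsIso k := inferInstance
    rw [show pullback.lift (N.a ≫ e) N.π _ = pullback.lift N.a N.π N.w ≫ k by
      apply pullback.hom_ext <;> simp [k]]
    infer_instance

end GrothLib.WeightLim8
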