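import Groth.Agent.Lib.WeightLim8.Criterion
import Groth.Agent.Lib.WeightLim8.Constr
import Groth.Agent.Lib.WeightLim8.Pre
import Groth.Agent.Lib.Weight.AffinePieces
import Groth.Agent.Lib.ConsLim.Limit
import Groth.Agent.Lib.Constr.Basic

/-!
# Weightings descend along limits
-/

universe u

set_option backward.isDefEq.respectTransparency false

open CategoryTheory Limits AlgebraicGeometry Topology

noncomputable section

namespace GrothLib.WeightLim8

open MoreMor GrothLib.Weight

/-- Finitely many constructible sets containing given points cover a spectral space. -/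
theorem exists_finite_cover {X : Type*} [TopologicalSpace X] [CompactSpace X] [QuasiSober X] [PrespectralSpace X]
    [QuasiSeparatedSpace X] (C : X → Set X) (hC : ∀ x, IsConstructible (C x)) (hx : ∀ x, x ∈ C x) :
    ∃ t : Finset X, ∀ x, ∃ i ∈ t, x ∈ C i := by
  obtain ⟨t, ht⟩ := CompactSpace.isCompact_univ.elim_finite_subcover
    (fun i ↦ (WithTopology.toTopology (constructibleTopology X)) '' C i)
    (fun i ↦ WithConstructibleTopology.isOpen_iff.mpr (by
      rw [Set.preimage_image_eq _ (WithTopology.toTopology_injective _)]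
      exact (GrothLib.Weight.isOpen_withConstructible (hC i)).1))
    (fun y _ ↦ by
      obtain ⟨x, rfl⟩ := WithTopology.toTopology_surjective (constructibleTopology X) y
      exact Set.mem_iUnion.mpr ⟨x, x, hx x, rfl⟩)
  refine ⟨t, fun x ↦ ?_⟩
  obtain ⟨i, hi, y, hy, hyx⟩ := Set.mem_iUnion₂.mp
    (ht (Set.mem_univ (WithTopology.toTopology (constructibleTopology X) x)))
  exact ⟨i, hi, WithTopology.toTopology_injective _ hyx ▸ hy⟩

/-- Pieces pull back along pullback squares. -/
theorem piece_pullback {X Y X' Y' : Scheme.{u}} {f : X ⟶ Y} {f' : X' ⟶ Y'} {h : X' ⟶ X} {g₀ : Y' ⟶ Y}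
    (hc : IsPullback h f' f g₀) {V T : Scheme.{u}} {g : V ⟶ Y} {π : T ⟶ V} {a : T ⟶ X} (hP : Piece f g π a) :
    ∃ a' : pullback π (pullback.fst g g₀) ⟶ X',
      Piece f' (pullback.snd g g₀) (pullback.snd π (pullback.fst g g₀)) a' ∧
      a' ≫ h = pullback.fst π (pullback.fst g g₀) ≫ a ∧
      IsPullback (pullback.fst π (pullback.fst g g₀)) a' a h := by
  have hT := hP.baseChange (IsPullback.of_hasPullback π (pullback.fst g g₀))
  let a' : pullback π (pullback.fst g g₀) ⟶ X' := hc.lift (pullback.fst _ _ ≫ a)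
    (pullback.snd _ _ ≫ pullback.snd g g₀) (by
      rw [Category.assoc, hP.w, pullback.condition_assoc, pullback.condition, Category.assoc])
  have ha : a' ≫ h = pullback.fst π (pullback.fst g g₀) ≫ a := hc.lift_fst _ _ _
  have ha' : a' ≫ f' = pullback.snd π (pullback.fst g g₀) ≫ pullback.snd g g₀ := hc.lift_snd _ _ _
  refine ⟨a', ⟨hT.finite, ha', ?_⟩, ha, ?_⟩
  · haveI := hT.openImmersion
    have hbig := (IsPullback.of_hasPullback f' (pullback.snd g g₀)).paste_horiz hc
    have hb2 : IsPullback (pullback.fst f' (pullback.snd g g₀) ≫ h) (pullback.snd f' (pullback.snd g g₀)) f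
        (pullback.fst g g₀ ≫ g) := by rwa [pullback.condition]
    rw [show pullback.lift a' _ ha' = pullback.lift (pullback.fst π (pullback.fst g g₀) ≫ a) _ hT.w ≫
        hb2.isoPullback.inv by
      rw [Iso.eq_comp_inv]
      apply pullback.hom_ext
      · rw [Category.assoc, hb2.isoPullback_hom_fst, pullback.lift_fst_assoc, pullback.lift_fst, ha]
      · rw [Category.assoc, hb2.isoPullback_hom_snd, pullback.lift_snd, pullback.lift_snd]]
    infer_instance
  · refine IsPullback.of_bot ?_ ha.symm hc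
    rw [ha', hP.w]
    exact (IsPullback.of_hasPullback π (pullback.fst g g₀)).paste_vert (IsPullback.of_hasPullback g g₀)

variable {I : Type u} [SmallCategory I] [IsCofiltered I] (D : I ⥤ Scheme.{u}) (c : Cone D) (hc : IsLimit c)
  [∀ (i j : I) (u : i ⟶ j), IsAffineHom (D.map u)] [∀ i, IsAffine (D.obj i)]

include hc in
/-- An ind-constructible set containing the image of the limit contains the image of a stage. -/
theorem exists_stage_fst_mem {i : I} {Z Zl : Scheme.{u}} (a : Z ⟶ D.obj i) [CompactSpace Z]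
    [QuasiSeparatedSpace Z] {q : Zl ⟶ Z} {p : Zl ⟶ c.pt} (hP : IsPullback q p a (c.π.app i)) {E : Set Z}
    (hE : ProCons.IsIndConstructible E) (h : ∀ z, q z ∈ E) :
    ∃ k : Over i, ∀ (l : Over i), (l ⟶ k) → ∀ y : (pullback a (D.map l.hom) : Scheme.{u}),
      pullback.fst a (D.map l.hom) y ∈ E := by
  let top : Over i := Over.mk (𝟙 i)
  let E₀ : Set ↥((GrothLib.LimDesc.diag D i a).obj top) := pullback.fst a (D.map top.hom) ⁻¹' E
  obtain ⟨k, φ, hk⟩ := GrothLib.ConsLim.exists_stage_forall_mem _ (GrothLib.LimDesc.cone D i a hP)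
    (GrothLib.LimDesc.isLimitCone D i a hP hc) top (E₀ := E₀)
    (Constr.isIndConstructible_preimage _ hE) (fun z => by
      show pullback.fst a (D.map top.hom) ((GrothLib.LimDesc.cone D i a hP).π.app top z) ∈ E
      exact (congrArg (fun u : Zl ⟶ Z => u z) (GrothLib.LimDesc.π_fst D i a hP top)).symm ▸ h z)
  refine ⟨k, fun l χ y => ?_⟩
  have h1 := hk ((GrothLib.LimDesc.diag D i a).map χ y)
  have e : (GrothLib.LimDesc.diag D i a).map χ ≫ (GrothLib.LimDesc.diag D i a).map φ ≫
      pullback.fst a (D.map top.hom) = pullback.fst a (D.map l.hom) := by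
    rw [GrothLib.LimDesc.map_fst, GrothLib.LimDesc.map_fst]
  rw [← e]
  exact h1

omit [IsCofiltered I] [∀ (i j : I) (u : i ⟶ j), IsAffineHom (D.map u)] [∀ i, IsAffine (D.obj i)] in
/-- Models transport along isomorphisms over the stage. -/
theorem pre_transport {X R B : Scheme.{u}} {g : R ⟶ c.pt} {π₀ : B ⟶ R} {a₀ : B ⟶ X} {i : I}
    {X₁ X₂ : Scheme.{u}} {f₁ : X₁ ⟶ D.obj i} {q₁ : X ⟶ X₁} (N : Pre D c g π₀ a₀ f₁ q₁)
    (hN : IsFinite N.π) (e : X₁ ⟶ X₂) [IsIso e] (f₂ : X₂ ⟶ D.obj i) (he : e ≫ f₂ = f₁) (q₂ : X ⟶ X₂)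
    (hq : q₁ ≫ e = q₂) : ∃ N' : Pre D c g π₀ a₀ f₂ q₂, IsFinite N'.π := by
  refine ⟨⟨N.V, N.v, N.T, N.π, N.a ≫ e, N.eV, N.eT, N.etale, N.qc, N.qs, N.qcπ, N.qsπ, N.lfp, ?_, ?_, N.sqV,
    N.sqT, by rw [reassoc_of% N.comm, hq]⟩, hN⟩
  · rw [Category.assoc, he, N.w]
  · let k : pullback f₁ N.v ⟶ pullback f₂ N.v :=
      pullback.map _ _ _ _ e (𝟙 _) (𝟙 _) (by rw [Category.comp_id, he]) (by simp)
    rw [show pullback.lift (N.a ≫ e) N.π _ = pullback.lift N.a N.π N.w ≫ k by
      apply pullback.hom_ext <;> simp [k]]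
    infer_instance

include hc in
theorem isWeighting_descends (i₀ : I) {X₀ X : Scheme.{u}} [IsAffine X₀] (f₀ : X₀ ⟶ D.obj i₀)
    [LocallyQuasiFinite f₀] [LocallyOfFinitePresentation f₀]
    (f : X ⟶ c.pt) (pX : X ⟶ X₀) (hX : IsPullback pX f f₀ (c.π.app i₀))
    (w : X → ℤ) (hw : IsWeighting f w) :
    ∃ (i : I) (a : i ⟶ i₀) (Xi : Scheme.{u}) (fi : Xi ⟶ D.obj i) (pXi : Xi ⟶ X₀) (g : X ⟶ Xi) (wi : Xi → ℤ),
      IsPullback pXi fi f₀ (D.map a) ∧ g ≫ fi = f ≫ c.π.app i ∧ g ≫ pXi = pX ∧
      IsWeighting fi wi ∧ ∀ x : X, wi (g x) = w x := by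
  classical
  haveI : IsAffine c.pt := Scheme.isAffine_of_isLimit c hc
  haveI : LocallyQuasiFinite f := MorphismProperty.of_isPullback hX ‹LocallyQuasiFinite f₀›
  haveI : LocallyOfFinitePresentation f := MorphismProperty.of_isPullback hX ‹LocallyOfFinitePresentation f₀›
  haveI : IsAffineHom f := MorphismProperty.of_isPullback hX (inferInstance : IsAffineHom f₀)
  haveI : IsAffine X := isAffine_of_isAffineHom f
  -- the values
  let S := (finite_range hw).toFinset
  have hS : ∀ x, w x ∈ S := fun x => (finite_range hw).mem_toFinset.mpr ⟨x, rfl⟩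
  have hlev : ∀ n : S, ∃ (k : Over i₀) (Z : Set ↥((GrothLib.LimDesc.diag D i₀ f₀).obj k)),
      IsConstructible Z ∧ (GrothLib.LimDesc.cone D i₀ f₀ hX).π.app k ⁻¹' Z = {x | w x = n.1} := fun n => by
    obtain ⟨k, -, Z, hZ, e⟩ := GrothLib.ConsLim.exists_constructible_preimage_eq _
      (GrothLib.LimDesc.cone D i₀ f₀ hX) (GrothLib.LimDesc.isLimitCone D i₀ f₀ hX hc) (Over.mk (𝟙 i₀))
      (Z := {x | w x = n.1}) (isLocallyConstructible_levelSet hw n.1).isConstructible
    exact ⟨k, Z, hZ, e⟩
  choose kk Z hZ hZe using hlev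
  obtain ⟨m, hm⟩ := IsCofiltered.inf_objs_exists (Finset.univ.image kk)
  let χ : ∀ n : S, m ⟶ kk n := fun n => (hm (Finset.mem_image_of_mem kk (Finset.mem_univ n))).some
  let Xm := pullback f₀ (D.map m.hom)
  let fm : Xm ⟶ D.obj m.left := pullback.snd _ _
  let qm : X ⟶ Xm := (GrothLib.LimDesc.cone D i₀ f₀ hX).π.app m
  let Zm : S → Set Xm := fun n => (GrothLib.LimDesc.diag D i₀ f₀).map (χ n) ⁻¹' Z n
  haveI : IsAffine Xm := isAffine_of_isAffineHom (pullback.fst f₀ (D.map m.hom))
  haveI : IsAffineHom (pullback.fst f₀ (D.map m.hom)) := inferInstance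
  have hZm : ∀ n, IsConstructible (Zm n) := fun n =>
    ((GrothLib.LimDesc.diag D i₀ f₀).map (χ n)).isConstructible_preimage (hZ n)
  have hZme : ∀ n (x : X), qm x ∈ Zm n ↔ w x = n.1 := fun n x => by
    show (GrothLib.LimDesc.diag D i₀ f₀).map (χ n) (qm x) ∈ Z n ↔ _
    have e : (GrothLib.LimDesc.diag D i₀ f₀).map (χ n) (qm x) =
        (GrothLib.LimDesc.cone D i₀ f₀ hX).π.app (kk n) x :=
      congrArg (fun u : X ⟶ _ => u x) ((GrothLib.LimDesc.cone D i₀ f₀ hX).w (χ n))
    rw [e]
    exact Set.ext_iff.mp (hZe n) x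
  let wm : Xm → ℤ := fun y => ∑ n : S, if y ∈ Zm n then n.1 else 0
  have hwm : ∀ x, wm (qm x) = w x := fun x => by
    simp only [wm, hZme]
    rw [Finset.sum_eq_single ⟨w x, hS x⟩ (fun n _ hn => if_neg fun e => hn (Subtype.ext e.symm))
      (fun h => absurd (Finset.mem_univ _) h), if_pos rfl]
  have hwml : ∀ v, IsConstructible {y | wm y = v} := (isConstructible_levelSets wm fun y => by
    let C : S → Set Xm := fun n => if y ∈ Zm n then Zm n else (Zm n)ᶜ
    refine ⟨⋂ n, C n, ?_, Set.mem_iInter.mpr fun n => ?_, fun y' hy' => Finset.sum_congr rfl fun n _ => ?_⟩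
    · rw [← compl_compl (⋂ n, C n), Set.compl_iInter]
      refine (IsConstructible.iUnion fun n => ?_).compl
      simp only [C]; split_ifs
      · exact (hZm n).compl
      · exact (hZm n).compl.compl
    · simp only [C]; split_ifs with h <;> exact h
    · have h1 := Set.mem_iInter.mp hy' n
      simp only [C] at h1
      split_ifs at h1 with h
      · rw [if_pos h, if_pos h1]
      · rw [if_neg h, if_neg h1]).1
  have hfm : IsPullback qm f fm (c.π.app m.left) := by
    refine IsPullback.of_right ?_ (GrothLib.LimDesc.π_snd D i₀ f₀ hX m) (IsPullback.of_hasPullback f₀ (D.map m.hom))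
    rw [GrothLib.LimDesc.π_fst D i₀ f₀ hX m, c.w]
    exact hX
  -- charts at the limit
  have hch : ∀ x : X, ∃ (R : CommRingCat.{u}) (g : Spec R ⟶ c.pt) (_ : Etale g) (B : CommRingCat.{u})
      (φ : R ⟶ B) (a : Spec B ⟶ X) (_ : Piece f g (Spec.map φ) a) (t : Spec B),
      a t = x ∧ fibreIntegral (Spec.map φ) (fun _ => 1) (Spec.map φ t) = 1 ∧
      ∀ v, fibreIntegral (Spec.map φ) (w ∘ ⇑a) v = w x := fun x => by
    obtain ⟨Ω, _, _, r, rfl⟩ := exists_pt x
    obtain ⟨R, g, hg, p, hp, B, φ, a, q, hP, hs, hq, hI, -, -⟩ :=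
      exists_affine_charts hw (r ≫ f) 1 (fun _ => ⟨r, rfl⟩) (fun _ => ⊤) (fun _ => trivial) ⊤ trivial
    haveI := (hP 0).finite
    haveI := hs 0
    refine ⟨R, g, hg, B 0, φ 0, a 0, hP 0, pt (q 0).1, ?_, ?_, hI 0⟩
    · show pt ((q 0).1 ≫ a 0) = pt r
      rw [hq]
    · rw [pt_geomPts (q 0)]
      exact fibreIntegral_of_unique_geomPts (Spec.map (φ 0)) p (q 0) _
  choose R g hg B φ a hP t hat h1 hI using hch
  haveI := hg
  haveI : ∀ x, IsFinite (Spec.map (φ x)) := fun x => (hP x).finite
  haveI : ∀ x, Etale (a x) := fun x => by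
    haveI := (hP x).openImmersion
    rw [show a x = (pullback.lift (a x) (Spec.map (φ x)) (hP x).w : _ ⟶ pullback f (g x)) ≫
      pullback.fst f (g x) from (pullback.lift_fst _ _ _).symm]
    infer_instance
  haveI : ∀ x, LocallyOfFinitePresentation (Spec.map (φ x)) := fun x => by
    haveI := (hP x).openImmersion
    rw [show Spec.map (φ x) = (pullback.lift (a x) (Spec.map (φ x)) (hP x).w : _ ⟶ pullback f (g x)) ≫
      pullback.snd f (g x) from (pullback.lift_snd _ _ _).symm]
    infer_instance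
  obtain ⟨s, hs⟩ := exists_finite_cover
    (fun x => a x '' (Spec.map (φ x) ⁻¹' {v | fibreIntegral (Spec.map (φ x)) (fun _ => 1) v = 1}))
    (fun x => (a x).isConstructible_image ((Spec.map (φ x)).isConstructible_preimage
      (isConstructible_fibreIntegral (Spec.map (φ x)) (w := fun _ => (1 : ℤ)) (fun n => by
        by_cases hn : (1 : ℤ) = n
        · simp only [hn, Set.setOf_true]; exact IsConstructible.univ
        · simp only [hn, Set.setOf_false]; exact IsConstructible.empty) 1)))
    (fun x => ⟨t x, h1 x, hat x⟩)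
  -- models of the charts
  haveI : LocallyOfFinitePresentation fm := MorphismProperty.pullback_snd _ _ inferInstance
  haveI : LocallyQuasiFinite fm := MorphismProperty.pullback_snd _ _ inferInstance
  have hmod : ∀ x : s, ∃ (k : Over m.left) (qk : X ⟶ pullback fm (D.map k.hom)),
      qk ≫ pullback.fst _ _ = qm ∧ qk ≫ pullback.snd _ _ = f ≫ c.π.app k.left ∧
      ∃ N : Pre D c (g x.1) (Spec.map (φ x.1)) (a x.1) (pullback.snd fm (D.map k.hom)) qk, IsFinite N.π :=
    fun x => by
      obtain ⟨k, ψ, qk, h1, h2, h3⟩ := exists_pre hc hfm (hP x.1)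
      exact ⟨Over.mk ψ, qk, h1, h2, h3⟩
  choose k qk hqk1 hqk2 N hN using hmod
  obtain ⟨l, hl⟩ := IsCofiltered.inf_objs_exists (Finset.univ.image k)
  let fl : pullback fm (D.map l.hom) ⟶ D.obj l.left := pullback.snd _ _
  let ql : X ⟶ pullback fm (D.map l.hom) := pullback.lift qm (f ≫ c.π.app l.left)
    (by rw [Category.assoc, c.w, hfm.w])
  have hfl : IsPullback ql f fl (c.π.app l.left) := by
    refine IsPullback.of_right ?_ (pullback.lift_snd _ _ _) (IsPullback.of_hasPullback fm (D.map l.hom))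
    rw [pullback.lift_fst, c.w]
    exact hfm
  haveI : IsAffine (pullback fm (D.map l.hom)) := isAffine_of_isAffineHom (pullback.fst fm (D.map l.hom))
  have hdata : ∀ x : s, ∃ M : Pre D c (g x.1) (Spec.map (φ x.1)) (a x.1) fl ql, IsFinite M.π := by
    intro x
    let ψ : l ⟶ k x := (hl (Finset.mem_image_of_mem k (Finset.mem_univ x))).some
    let q' : X ⟶ pullback (pullback.snd fm (D.map (k x).hom)) (D.map ψ.left) :=
      pullback.lift (qk x) (f ≫ c.π.app l.left) (by rw [Category.assoc, c.w, hqk2])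
    have hsq : IsPullback (qk x) f (pullback.snd fm (D.map (k x).hom)) (c.π.app (k x).left) := by
      refine IsPullback.of_right ?_ (hqk2 x) (IsPullback.of_hasPullback fm (D.map (k x).hom))
      rw [hqk1, c.w]
      exact hfm
    obtain ⟨M, hM⟩ := (N x).map hsq (hP x.1).w ψ.left q' (pullback.lift_fst _ _ _) (pullback.lift_snd _ _ _)
    have hMfin : IsFinite M.π := hM @IsFinite
      (MorphismProperty.of_isPullback ((N x).isPullback_πMap ψ.left) (hN x))
    have he : IsPullback (pullback.fst _ _ ≫ pullback.fst _ _)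
        (pullback.snd (pullback.snd fm (D.map (k x).hom)) (D.map ψ.left)) fm (D.map l.hom) := by
      rw [← Over.w ψ, D.map_comp]
      exact (IsPullback.of_hasPullback _ _).paste_horiz (IsPullback.of_hasPullback fm (D.map (k x).hom))
    refine pre_transport D c M hMfin he.isoPullback.hom fl he.isoPullback_hom_snd ql ?_
    apply pullback.hom_ext
    · rw [Category.assoc, he.isoPullback_hom_fst, pullback.lift_fst, pullback.lift_fst_assoc, hqk1]
    · rw [Category.assoc, he.isoPullback_hom_snd, pullback.lift_snd, pullback.lift_snd]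
  choose M hM using hdata
  haveI := hM
  let wl : (pullback fm (D.map l.hom) : Scheme.{u}) → ℤ := wm ∘ ⇑(pullback.fst fm (D.map l.hom))
  have hwl : ∀ x, wl (ql x) = w x := fun x => by
    show wm (pullback.fst fm (D.map l.hom) (ql x)) = _
    rw [← Scheme.Hom.comp_apply, pullback.lift_fst, hwm]
  have hwll : ∀ v, IsConstructible {y | wl y = v} := fun v =>
    (pullback.fst fm (D.map l.hom)).isConstructible_preimage (hwml v)
  haveI : LocallyOfFinitePresentation fl := MorphismProperty.pullback_snd _ _ inferInstance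
  haveI : ∀ x, CompactSpace (M x).V := fun x => QuasiCompact.compactSpace_of_compactSpace (M x).v
  haveI : ∀ x, QuasiSeparatedSpace (M x).V := fun x => quasiSeparatedSpace_of_quasiSeparated (M x).v
  haveI : ∀ x, CompactSpace (M x).T := fun x => QuasiCompact.compactSpace_of_compactSpace (M x).π
  haveI : ∀ x, QuasiSeparatedSpace (M x).T := fun x => quasiSeparatedSpace_of_quasiSeparated (M x).π
  haveI : ∀ x, LocallyOfFinitePresentation (M x).a := fun x => by
    rw [show (M x).a = (pullback.lift (M x).a (M x).π (M x).w : _ ⟶ pullback fl (M x).v) ≫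
      pullback.fst fl (M x).v from (pullback.lift_fst _ _ _).symm]
    infer_instance
  haveI : ∀ x, QuasiCompact (M x).a := fun x => quasiCompact_of_compactSpace _
  have h1c : ∀ (x : s) (n : ℤ), IsConstructible {z : (M x).T | (1 : ℤ) = n} := fun x n => by
    by_cases hn : (1 : ℤ) = n
    · simp only [hn, Set.setOf_true]; exact IsConstructible.univ
    · simp only [hn, Set.setOf_false]; exact IsConstructible.empty
  -- covering
  let Cov : Set ↥(pullback fm (D.map l.hom)) :=
    ⋃ x : s, (M x).a '' ((M x).π ⁻¹' {v | fibreIntegral (M x).π (fun _ => 1) v = 1})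
  have hCov : IsConstructible Cov := IsConstructible.iUnion fun x => (M x).a.isConstructible_image
    ((M x).π.isConstructible_preimage (isConstructible_fibreIntegral (M x).π (h1c x) 1))
  have hCovX : ∀ z, ql z ∈ Cov := fun z => by
    obtain ⟨x, hx, z₁, hz₁, rfl⟩ := hs z
    refine Set.mem_iUnion.mpr ⟨⟨x, hx⟩, (M ⟨x, hx⟩).eT z₁, ?_, ?_⟩
    · show fibreIntegral _ _ ((M ⟨x, hx⟩).π ((M ⟨x, hx⟩).eT z₁)) = 1
      rw [← Scheme.Hom.comp_apply, (M ⟨x, hx⟩).sqT.w, Scheme.Hom.comp_apply,
        ← fibreIntegral_isPullback (M ⟨x, hx⟩).sqT]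
      exact hz₁
    · show _ = ql (a x z₁)
      rw [← Scheme.Hom.comp_apply, ← Scheme.Hom.comp_apply, (M ⟨x, hx⟩).comm]
  obtain ⟨k₀, hk₀⟩ := exists_stage_fst_mem D c hc fl hfl
    (Constr.isIndConstructible_of_isLocallyConstructible hCov.isLocallyConstructible) hCovX
  -- integrals
  have hval : ∀ x : s, ∃ k₁ : Over l.left, ∀ (n : Over l.left), (n ⟶ k₁) →
      ∀ y : (pullback (M x).v (D.map n.hom) : Scheme.{u}), pullback.fst (M x).v (D.map n.hom) y ∈
        {v | fibreIntegral (M x).π (wl ∘ ⇑(M x).a) v = w x.1} := fun x => by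
    refine exists_stage_fst_mem D c hc (M x).v (M x).sqV (Constr.isIndConstructible_of_isLocallyConstructible
      (isConstructible_fibreIntegral (M x).π (w := wl ∘ ⇑(M x).a)
        (fun v => (M x).a.isConstructible_preimage (hwll v)) (w x.1)).isLocallyConstructible) fun z => ?_
    show fibreIntegral (M x).π (wl ∘ ⇑(M x).a) ((M x).eV z) = w x.1
    rw [← fibreIntegral_isPullback (M x).sqT, ← hI x.1 z]
    refine congrArg (fun u => fibreIntegral (Spec.map (φ x.1)) u z) (funext fun b => ?_)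
    show wl ((M x).a ((M x).eT b)) = w (a x.1 b)
    rw [← Scheme.Hom.comp_apply, (M x).comm, Scheme.Hom.comp_apply, hwl]
  choose k₁ hk₁ using hval
  obtain ⟨n, hn⟩ := IsCofiltered.inf_objs_exists (insert k₀ (Finset.univ.image k₁))
  -- the answer
  let Xi := pullback fl (D.map n.hom)
  let fi : Xi ⟶ D.obj n.left := pullback.snd _ _
  let gi : X ⟶ Xi := pullback.lift ql (f ≫ c.π.app n.left) (by rw [Category.assoc, c.w, hfl.w])
  haveI : LocallyQuasiFinite fl := MorphismProperty.pullback_snd _ _ inferInstance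
  haveI : LocallyQuasiFinite fi := MorphismProperty.pullback_snd _ _ inferInstance
  haveI : LocallyOfFinitePresentation fi := MorphismProperty.pullback_snd _ _ inferInstance
  have hsq := IsPullback.of_hasPullback fl (D.map n.hom)
  refine ⟨n.left, n.hom ≫ l.hom ≫ m.hom, Xi, fi, pullback.fst _ _ ≫ pullback.fst _ _ ≫ pullback.fst _ _, gi,
    wl ∘ ⇑(pullback.fst fl (D.map n.hom)), ?_, pullback.lift_snd _ _ _, ?_, isWeighting_of_good fun y => ?_, ?_⟩
  · rw [D.map_comp, D.map_comp]
    exact hsq.paste_horiz ((IsPullback.of_hasPullback fm (D.map l.hom)).paste_horiz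
      (IsPullback.of_hasPullback f₀ (D.map m.hom)))
  · simp only [gi, ql, qm, pullback.lift_fst_assoc]
    exact GrothLib.LimDesc.π_fst D i₀ f₀ hX m
  · obtain ⟨x, t₀, ht₀, hat₀⟩ := Set.mem_iUnion.mp
      (hk₀ n (hn (Finset.mem_insert_self _ _)).some y)
    obtain ⟨a', hP', ha', hsqa⟩ := piece_pullback hsq (⟨hM x, (M x).w, (M x).openImm⟩ :
      Piece fl (M x).v (M x).π (M x).a)
    obtain ⟨t', ht1, ht2⟩ := Scheme.exists_preimage_of_isPullback hsqa t₀ y hat₀
    refine ⟨pullback (M x).v (D.map n.hom), pullback.snd _ _, MorphismProperty.pullback_snd (P := @Etale) _ _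
      (M x).etale, _, _, a', hP', t', ht2, ?_, ?_⟩
    · refine (fibreIntegral_isPullback (IsPullback.of_hasPullback (M x).π (pullback.fst (M x).v (D.map n.hom)))
        (fun _ => (1 : ℤ)) _).trans ?_
      rw [← Scheme.Hom.comp_apply, ← pullback.condition, Scheme.Hom.comp_apply, ht1]
      exact ht₀
    · convert IsLocallyConstant.const (X := ↥(pullback (M x).v (D.map n.hom))) (w x.1) using 1
      funext z
      have e : (wl ∘ ⇑(pullback.fst fl (D.map n.hom))) ∘ ⇑a' =
          (wl ∘ ⇑(M x).a) ∘ ⇑(pullback.fst (M x).π (pullback.fst (M x).v (D.map n.hom))) := by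
        funext b
        show wl (pullback.fst fl (D.map n.hom) (a' b)) = wl ((M x).a (pullback.fst (M x).π _ b))
        rw [← Scheme.Hom.comp_apply, ha', Scheme.Hom.comp_apply]
      rw [e]
      refine (fibreIntegral_isPullback (IsPullback.of_hasPullback (M x).π (pullback.fst (M x).v (D.map n.hom))) _ z).trans ?_
      exact hk₁ x n (hn (Finset.mem_insert_of_mem (Finset.mem_image_of_mem k₁ (Finset.mem_univ x)))).some z
  · intro x
    show wl (pullback.fst fl (D.map n.hom) (gi x)) = w x
    rw [← Scheme.Hom.comp_apply, pullback.lift_fst, hwl]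

end GrothLib.WeightLim8
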