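import Groth.Agent.Lib.Weight.Weighting
import Groth.Agent.Lib.Weight.Constructible
import Groth.Agent.Lib.Weight.Multiplicity

/-!
# Weightings are recognised on one radicial piece through each point
-/

universe u

open CategoryTheory Limits AlgebraicGeometry Topology

namespace GrothLib.WeightLim8

open MoreMor GrothLib.Weight

variable {X Y : Scheme.{u}} {f : X ⟶ Y}

/-- A piece over an étale base with one geometric point through `x` and locally constant integral. -/
def GoodAt (f : X ⟶ Y) (w : X → ℤ) (x : X) : Prop :=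
  ∃ (V : Scheme.{u}) (g : V ⟶ Y) (_ : Etale g) (T : Scheme.{u}) (π : T ⟶ V) (a : T ⟶ X)
    (_ : Piece f g π a) (t : T), a t = x ∧ fibreIntegral π (fun _ => 1) (π t) = 1 ∧
      IsLocallyConstant (fibreIntegral π (w ∘ ⇑a))

/-- Good pieces give charts at geometric points. -/
theorem exists_good_chart [LocallyQuasiFinite f] [LocallyOfFiniteType f] {w : X → ℤ}
    (hw : ∀ x, GoodAt f w x) {Ω : Type u} [Field Ω] [IsAlgClosed Ω]
    (p₀ : Spec (CommRingCat.of Ω) ⟶ Y) (r : GeomPts f p₀) :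
    ∃ (U : Scheme.{u}) (g : U ⟶ Y) (_ : Etale g) (p : Spec (CommRingCat.of Ω) ⟶ U)
      (_ : p ≫ g = p₀) (T : Scheme.{u}) (π : T ⟶ U) (a : T ⟶ X) (q : GeomPts π p),
      Piece f g π a ∧ Subsingleton (GeomPts π p) ∧ q.1 ≫ a = r.1 ∧
        IsLocallyConstant (fibreIntegral π (w ∘ ⇑a)) := by
  obtain ⟨V, g, _, T, π, a, hP, t, hat, h1, hlc⟩ := hw (pt r.1)
  haveI := hP.finite
  haveI := hP.openImmersion
  haveI : Etale a := by
    rw [show a = (pullback.lift a π hP.w : T ⟶ pullback f g) ≫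
      pullback.fst f g from (pullback.lift_fst _ _ _).symm]
    infer_instance
  haveI : LocallyQuasiFinite a := GrothLib.Weight.locallyQuasiFinite_of_formallyUnramified a
  obtain ⟨⟨⟨q, hq⟩, hqt⟩⟩ : Nonempty {c : GeomPts a r.1 // pt c.1 = t} := by
    refine (Nat.card_ne_zero.mp ?_).1
    rw [(card_geomPts_over a r.1 t hat).2]
    letI := (a.residueFieldMap t).hom.toAlgebra
    haveI : Module.Finite (X.residueField (a t)) (T.residueField t) := finite_residueFieldMap a t
    exact NeZero.ne _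
  have hp : pt (q ≫ π) = π t := by rw [pt_comp, hqt]
  haveI : Finite (GeomPts π (q ≫ π)) := finite_geomPts π (q ≫ π) (π.finite_preimage_singleton _)
  refine ⟨V, g, inferInstance, q ≫ π, ?_, T, π, a, ⟨q, rfl⟩, hP, ?_, hq, hlc⟩
  · rw [Category.assoc, ← hP.w, ← Category.assoc, hq, r.2]
  · have hc := card_geomPts π (q ≫ π) (π.finite_preimage_singleton _)
    rw [hp, h1] at hc
    rw [← Finite.card_le_one_iff_subsingleton]
    omega

/-- **Key lemma.** On a piece with a single geometric point over `p` — over an arbitrary base —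
the integral is constant near the point. -/
theorem eventually_single [LocallyQuasiFinite f] [LocallyOfFiniteType f] {w : X → ℤ}
    (hw : ∀ x, GoodAt f w x) {V T : Scheme.{u}} {g : V ⟶ Y} {π : T ⟶ V} {a : T ⟶ X}
    (hP : Piece f g π a) {Ω : Type u} [Field Ω] [IsAlgClosed Ω] {p : Spec (CommRingCat.of Ω) ⟶ V}
    (q : GeomPts π p) (hs : Subsingleton (GeomPts π p)) :
    ∀ᶠ v in 𝓝 (pt p), fibreIntegral π (w ∘ ⇑a) v = w (a (pt q.1)) := by
  haveI := hP.finite
  obtain ⟨U, k, _, pU, hpU, S, ρ, b, qS, hS, hSs, hqS, hSlc⟩ := exists_good_chart hw (p ≫ g)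
    (⟨q.1 ≫ a, by rw [Category.assoc, hP.w, ← Category.assoc, q.2]⟩ : GeomPts f (p ≫ g))
  haveI := hS.finite
  let V₃ := pullback g k
  let e : V₃ ⟶ V := pullback.fst g k
  let c : V₃ ⟶ U := pullback.snd g k
  let p₃ : Spec (CommRingCat.of Ω) ⟶ V₃ := pullback.lift p pU hpU.symm
  have hT₃ := hP.baseChange (IsPullback.of_hasPullback π e)
  have hS₃' := hS.baseChange (IsPullback.of_hasPullback ρ c)
  have hS₃ : Piece f (e ≫ g) (pullback.snd ρ c) (pullback.fst ρ c ≫ b) := by
    rwa [show c ≫ k = e ≫ g from pullback.condition.symm] at hS₃'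
  haveI := hT₃.finite
  haveI := hS₃.finite
  let qT : GeomPts (pullback.snd π e) p₃ :=
    ⟨pullback.lift q.1 p₃ (q.2.trans (pullback.lift_fst _ _ _).symm), pullback.lift_snd _ _ _⟩
  let qS₃ : GeomPts (pullback.snd ρ c) p₃ :=
    ⟨pullback.lift qS.1 p₃ (qS.2.trans (pullback.lift_snd _ _ _).symm), pullback.lift_snd _ _ _⟩
  have hTs : Subsingleton (GeomPts (pullback.snd π e) p₃) :=
    (geomPtsEquiv (IsPullback.of_hasPullback π e) p₃ p (pullback.lift_fst _ _ _)).subsingleton
  have hSs₃ : Subsingleton (GeomPts (pullback.snd ρ c) p₃) :=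
    (geomPtsEquiv (IsPullback.of_hasPullback ρ c) p₃ pU (pullback.lift_snd _ _ _)).subsingleton
  haveI := hT₃.openImmersion
  haveI := hS₃.openImmersion
  set iT := (pullback.lift (pullback.fst π e ≫ a) (pullback.snd π e) hT₃.w :
    pullback π e ⟶ pullback f (e ≫ g))
  set iS := (pullback.lift (pullback.fst ρ c ≫ b) (pullback.snd ρ c) hS₃.w :
    pullback ρ c ⟶ pullback f (e ≫ g))
  have hcommon : qT.1 ≫ iT = qS₃.1 ≫ iS := by
    apply pullback.hom_ext
    · simp only [iT, iS, Category.assoc, pullback.lift_fst, qT, qS₃, pullback.lift_fst_assoc]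
      exact hqS.symm
    · simp only [iT, iS, Category.assoc, pullback.lift_snd, qT, qS₃]
  obtain ⟨O₁, hO₁, hO₁'⟩ := exists_preimage_subset (pullback.snd π e)
    (pullback.snd π e).isClosedMap (pt p₃) (iT ⁻¹' Set.range iS)
    (iS.isOpenEmbedding.isOpen_range.preimage iT.continuous)
    (mem_of_subsingleton_fibre _ qT hTs _ ⟨pt qS₃.1, (congrArg pt hcommon).symm⟩)
  obtain ⟨O₂, hO₂, hO₂'⟩ := exists_preimage_subset (pullback.snd ρ c)
    (pullback.snd ρ c).isClosedMap (pt p₃) (iS ⁻¹' Set.range iT)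
    (iT.isOpenEmbedding.isOpen_range.preimage iS.continuous)
    (mem_of_subsingleton_fibre _ qS₃ hSs₃ _ ⟨pt qT.1, congrArg pt hcommon⟩)
  have hval : fibreIntegral ρ (w ∘ ⇑b) (pt pU) = w (a (pt q.1)) := by
    rw [fibreIntegral_of_unique_geomPts ρ pU qS]
    show w (pt (qS.1 ≫ b)) = w (pt (q.1 ≫ a))
    rw [hqS]
  have hlc : ∀ᶠ z in 𝓝 (pt p₃), fibreIntegral ρ (w ∘ ⇑b) (c z) = w (a (pt q.1)) := by
    have h1 := hSlc.eventually_eq (pt pU)
    have h2 : c (pt p₃) = pt pU := by rw [← pt_comp, pullback.lift_snd]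
    exact (c.continuous.tendsto (pt p₃)).eventually
      (h2.symm ▸ h1.mono fun z hz ↦ hz.trans hval)
  have hmain : ∀ᶠ z in 𝓝 (pt p₃), fibreIntegral π (w ∘ ⇑a) (e z) = w (a (pt q.1)) := by
    filter_upwards [hlc, O₁.isOpen.mem_nhds hO₁, O₂.isOpen.mem_nhds hO₂] with z hz hz₁ hz₂
    rw [← fibreIntegral_isPullback (IsPullback.of_hasPullback π e) (w ∘ ⇑a) z]
    rw [← hz, ← fibreIntegral_isPullback (IsPullback.of_hasPullback ρ c) (w ∘ ⇑b) z]
    refine fibreIntegral_eq_of_range hT₃ hS₃ z (fun x hx ↦ ⟨?_, ?_⟩) w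
    · rintro ⟨t, rfl⟩
      refine hO₁' t ?_
      rw [show pullback.snd π e t = z from by
        rw [← hx, ← Scheme.Hom.comp_apply, pullback.lift_snd]]
      exact hz₁
    · rintro ⟨t, rfl⟩
      refine hO₂' t ?_
      rw [show pullback.snd ρ c t = z from by
        rw [← hx, ← Scheme.Hom.comp_apply, pullback.lift_snd]]
      exact hz₂
  have := eventually_eq_of_lift e e.isOpenMap (pt p₃) _ _ hmain
  rwa [show e (pt p₃) = pt p by rw [← pt_comp, pullback.lift_fst]] at this

/-- Weightings behave well over arbitrary bases: the integral over any piece is locally constant. -/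
theorem isLocallyConstant_of_good [LocallyQuasiFinite f] [LocallyOfFiniteType f] {w : X → ℤ}
    (hw : ∀ x, GoodAt f w x) {V T : Scheme.{u}} {g : V ⟶ Y} {π : T ⟶ V} {a : T ⟶ X}
    (hP : Piece f g π a) : IsLocallyConstant (fibreIntegral π (w ∘ ⇑a)) := by
  haveI := hP.finite
  rw [IsLocallyConstant.iff_eventually_eq]
  intro v
  obtain ⟨Ω, _, _, p, rfl⟩ := exists_pt v
  obtain ⟨V', h, _, p', hp', n, P, j, hj, hjfin, hjpt, hcov⟩ := exists_split π p
  have hP' := hP.baseChange (IsPullback.of_hasPullback π h)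
  haveI := hP'.finite
  have hsum : ∀ z, fibreIntegral π (w ∘ ⇑a) (h z) =
      ∑ i, fibreIntegral (j i ≫ pullback.snd π h) (w ∘ ⇑(j i ≫ pullback.fst π h ≫ a)) z := fun z ↦ by
    rw [← fibreIntegral_isPullback (IsPullback.of_hasPullback π h) (w ∘ ⇑a) z,
      fibreIntegral_split (pullback.snd π h) P j z
        ((pullback.snd π h).finite_preimage_singleton z) (fun x _ ↦ hcov x)]
    rfl
  have hev : ∀ i, ∀ᶠ z in 𝓝 (pt p'),
      fibreIntegral (j i ≫ pullback.snd π h) (w ∘ ⇑(j i ≫ pullback.fst π h ≫ a)) z =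
        fibreIntegral (j i ≫ pullback.snd π h) (w ∘ ⇑(j i ≫ pullback.fst π h ≫ a)) (pt p') := by
    intro i
    haveI := hj i
    obtain ⟨hs, ⟨q⟩⟩ := hjpt i
    have h1 := eventually_single hw (hP'.open (j i) (hjfin i)) q hs
    exact h1.mono fun z hz ↦ hz.trans h1.self_of_nhds.symm
  have hall := Filter.eventually_all.mpr hev
  have := eventually_eq_of_lift h h.isOpenMap (pt p') (fibreIntegral π (w ∘ ⇑a))
    (fibreIntegral π (w ∘ ⇑a) (h (pt p'))) (by
      filter_upwards [hall] with z hz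
      rw [hsum, hsum]
      exact Finset.sum_congr rfl fun i _ ↦ hz i)
  rwa [← pt_comp, hp'] at this

/-- A function with a good piece through every point is a weighting. -/
theorem isWeighting_of_good [LocallyQuasiFinite f] [LocallyOfFiniteType f] {w : X → ℤ}
    (hw : ∀ x, GoodAt f w x) : IsWeighting f w :=
  fun _ g _ U hU => isLocallyConstant_of_good hw (Piece.ofOpens g U hU)

end GrothLib.WeightLim8
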